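import Groth.Agent.ZetaLib.ProjPoints
import Groth.Agent.LefHyp.Ideal
import Groth.Prelude.Def_SgaExt

/-!
# Rational points of a hypersurface
-/

set_option autoImplicit false
set_option backward.isDefEq.respectTransparency false

universe u

noncomputable section

open AlgebraicGeometry CategoryTheory MvPolynomial

namespace Groth.Agent.QuadricCount

open Groth.Agent.ZetaLib LefPen

variable {k : Type u} [Field k] {n : ℕ}

theorem chart_preimage (i : Fin (n + 1)) :
    chartι n k i ⁻¹ᵁ Proj.basicOpen (CohB1.polyGrading n k) (X i) = ⊤ :=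
  top_le_iff.1 fun x _ => ((Proj.opensRange_awayι _ _ _ _).le ⟨x, rfl⟩)

theorem chart_appLE (i : Fin (n + 1)) :
    Proj.awayToSection (CohB1.polyGrading n k) (X i) ≫
        (chartι n k i).appLE (Proj.basicOpen (CohB1.polyGrading n k) (X i)) ⊤ (chart_preimage i).ge =
      (Scheme.ΓSpecIso _).inv := by
  let e := Proj.basicOpenIsoSpec (CohB1.polyGrading n k) (X i) (ZetaLib.X_mem n k i) one_pos
  have h1 : e.hom.appTop ≫ e.inv.appTop = 𝟙 _ := by
    rw [← Scheme.Hom.comp_appTop, Iso.inv_hom_id]
    rfl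
  have h2 : e.hom.appTop = (Scheme.ΓSpecIso _).hom ≫ Proj.awayToSection _ (X i) ≫
      (Proj.basicOpen (CohB1.polyGrading n k) (X i)).topIso.inv :=
    Proj.basicOpenToSpec_app_top _ _
  rw [h2] at h1
  rw [← cancel_epi (Scheme.ΓSpecIso _).hom, Iso.hom_inv_id]
  refine Eq.trans ?_ h1
  simp only [Category.assoc]
  congr 2
  let U := Proj.basicOpen (CohB1.polyGrading n k) (X i)
  have h3 : U.ι.appLE U ⊤ (fun x _ => x.2) = U.topIso.inv := by
    simp [Scheme.Opens.ι_appLE, Scheme.Opens.topIso_inv]
    rfl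
  rw [← h3]
  exact (Scheme.Hom.appLE_comp_appLE e.inv U.ι U ⊤ ⊤ (fun x _ => x.2) le_top).symm.trans
    (congrArg (_ ≫ ·) (Scheme.Hom.appLE_eq_app e.inv))

variable {F : Type u} [Field F] [Algebra k F]

theorem appLE_chart (i : Fin (n + 1)) (φ : HomogeneousLocalization.Away (CohB1.polyGrading n k) (X i) →+* F)
    {d : ℕ} (G : Form n k d) (e : ⊤ ≤ (Spec.map (CommRingCat.ofHom φ) ≫ chartι n k i) ⁻¹ᵁ chart n k i) :
    ((Spec.map (CommRingCat.ofHom φ) ≫ chartι n k i).appLE (chart n k i) ⊤ e) (LefPen.dehom G i) =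
      (Scheme.ΓSpecIso (CommRingCat.of F)).inv (φ (dh n k i G.1)) := by
  rw [show (Spec.map (CommRingCat.ofHom φ) ≫ chartι n k i).appLE (chart n k i) ⊤ e = _ from
    (Scheme.Hom.appLE_comp_appLE (Spec.map (CommRingCat.ofHom φ)) (chartι n k i) (chart n k i) ⊤ ⊤
    (chart_preimage i).ge le_top).symm]
  rw [CommRingCat.comp_apply, dh, dehom_of_mem _ _ G.2]
  have h := congr($(chart_appLE (k := k) i) (HomogeneousLocalization.Away.mk (CohB1.polyGrading n k)
    (LefPen.X_mem n k i) d G.1 (by rw [smul_eq_mul, mul_one]; exact G.2)))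
  rw [CommRingCat.comp_apply] at h
  erw [h]
  exact congr($(Scheme.ΓSpecIso_inv_naturality (CommRingCat.ofHom φ)) _).symm

theorem hypIdeal_le_ker_iff (i : Fin (n + 1))
    (φ : HomogeneousLocalization.Away (CohB1.polyGrading n k) (X i) →+* F) (v : Fin (n + 1) → F)
    (hφ : φ.comp (dh n k i) = (MvPolynomial.aeval v : MvPolynomial (Fin (n + 1)) k →ₐ[k] F).toRingHom)
    {d : ℕ} (G : Form n k d) :
    hypIdeal G ≤ (Spec.map (CommRingCat.ofHom φ) ≫ chartι n k i).ker ↔ MvPolynomial.aeval v G.1 = 0 := by
  let g : Spec (CommRingCat.of F) ⟶ CohB1.ProjSpace n k := Spec.map (CommRingCat.ofHom φ) ≫ chartι n k i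
  have hgi : ⊤ ≤ g ⁻¹ᵁ chart n k i := fun x _ =>
    (chart_preimage (k := k) i).ge (x := (Spec.map (CommRingCat.ofHom φ)) x) trivial
  have hval : (g.appLE (chart n k i) ⊤ hgi) (LefPen.dehom G i) =
      (Scheme.ΓSpecIso (CommRingCat.of F)).inv (MvPolynomial.aeval v G.1) := by
    refine (appLE_chart i φ G hgi).trans ?_
    exact congrArg _ (RingHom.congr_fun hφ G.1)
  let Vj : Fin (n + 1) → (CohB1.ProjSpace n k).affineOpens := fun j =>
    ⟨chart n k j, SepTang48.isAffineOpen_D k n j⟩
  have hVi : ∀ j, (hypIdeal G).ideal (Vj j) = Ideal.span {LefPen.dehom G j} := fun j => by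
    rw [LefHyp.hypIdeal_ideal_of_le G j (Vj j) le_rfl, QCoh.rres_self]
  constructor
  · intro hle
    have h : g.app (chart n k i) (LefPen.dehom G i) = 0 := by
      have := hle (Vj i) ((hVi i).ge (Ideal.mem_span_singleton_self _))
      rwa [Scheme.Hom.ker_apply] at this
    have h0 : (g.appLE (chart n k i) ⊤ hgi) (LefPen.dehom G i) = 0 := by
      rw [Scheme.Hom.appLE, CommRingCat.comp_apply, h, map_zero]
    rw [hval] at h0
    exact (map_eq_zero_iff _ (Scheme.ΓSpecIso (CommRingCat.of F)).commRingCatIsoToRingEquiv.symm.injective).1 h0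
  · intro hv
    rw [hv, map_zero] at hval
    refine Scheme.IdealSheafData.le_of_iSup_eq_top Vj (SepTang48.iSup_D k n) fun j => ?_
    rw [hVi j, Ideal.span_singleton_le_iff_mem, Scheme.Hom.ker_apply, RingHom.mem_ker]
    by_cases hj : IsLocalRing.closedPoint F ∈ g ⁻¹ᵁ chart n k j
    · have hU : g ⁻¹ᵁ chart n k j ≤ g ⁻¹ᵁ (chart n k i ⊓ chart n k j) := fun x hx => ⟨hgi trivial, hx⟩
      have e1 : g.app (chart n k j) (LefPen.dehom G j) =
          g.appLE (chart n k i ⊓ chart n k j) (g ⁻¹ᵁ chart n k j) hU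
            (QCoh.rres (inf_le_right : chart n k i ⊓ chart n k j ≤ chart n k j) (LefPen.dehom G j)) := by
        rw [Scheme.Hom.app_eq_appLE]
        exact (congr($(Scheme.Hom.map_appLE g hU (homOfLE inf_le_right).op) _)).symm
      refine e1.trans ((congrArg _ (LefHyp.rres_dehom G i j (chart n k i ⊓ chart n k j) inf_le_left inf_le_right)).trans ?_)
      rw [map_mul]
      have e2 : g.appLE (chart n k i ⊓ chart n k j) (g ⁻¹ᵁ chart n k j) hU
          (QCoh.rres (inf_le_left : chart n k i ⊓ chart n k j ≤ chart n k i) (LefPen.dehom G i)) =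
          (Spec (CommRingCat.of F)).presheaf.map (homOfLE le_top).op
            ((g.appLE (chart n k i) ⊤ hgi) (LefPen.dehom G i)) := by
        refine (congr($(Scheme.Hom.map_appLE g hU (homOfLE inf_le_left).op) _)).trans ?_
        exact (congr($(Scheme.Hom.appLE_map g hgi (homOfLE le_top).op) _)).symm
      refine (congrArg (_ * ·) e2).trans ?_
      rw [hval, map_zero, mul_zero]
    · have hbot : g ⁻¹ᵁ chart n k j = ⊥ := by
        refine le_antisymm (fun x hx => (hj ?_).elim) bot_le
        rwa [show IsLocalRing.closedPoint F = x from Subsingleton.elim (α := PrimeSpectrum F) _ _]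
      haveI : Subsingleton Γ(Spec (CommRingCat.of F), g ⁻¹ᵁ chart n k j) :=
        CommRingCat.subsingleton_of_isTerminal (((Spec (CommRingCat.of F)).sheaf.isTerminalOfEqEmpty hbot :))
      exact Subsingleton.elim _ _

variable (k n F) in
/-- The rational points of a hypersurface are the zeros of the form among the strata. -/
theorem pointCount_hypersurface [Finite F] {d : ℕ} (G : Form n k d) :
    SgaExt.pointCount ((hypIdeal G).subschemeι ≫ CohB1.ProjSpace.toSpec n k) F =
      Nat.card { p : Strata n F // MvPolynomial.aeval p.2.1 G.1 = 0 } := by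
  classical
  rw [SgaExt.pointCount]
  choose φ hφ using fun p : Strata n F => exists_chartHom n k p.1 p.2.1 p.2.2.1
  let Pts := { g : Spec (CommRingCat.of F) ⟶ CohB1.ProjSpace n k //
    g ≫ CohB1.ProjSpace.toSpec n k = Spec.map (CommRingCat.ofHom (algebraMap k F)) }
  let Φ : Strata n F → Pts := fun p =>
    ⟨Spec.map (CommRingCat.ofHom (φ p)) ≫ chartι n k p.1, by
      refine (chart_comp_toSpec n k p.1 (φ p)).trans (congrArg Spec.map ?_)
      refine CommRingCat.hom_ext (RingHom.ext fun r => ?_)
      have := RingHom.congr_fun (hφ p) (C r)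
      simpa using this⟩
  have hΦ : Function.Bijective Φ := by
    haveI : Finite (Strata n F) := inferInstance
    haveI : Finite Pts := by
      have h := pointCount_projSpace (F := F) n k
      rw [SgaExt.pointCount] at h
      exact Nat.finite_of_card_ne_zero (h.trans_ne (by
        rw [Finset.sum_range_succ', pow_zero]; omega))
    refine (Nat.bijective_iff_surjective_and_card Φ).2 ⟨?_, ?_⟩
    · rintro ⟨g, hg⟩
      set P := g (IsLocalRing.closedPoint F)
      let S := Finset.univ.filter fun j : Fin (n + 1) => P ∈ Proj.basicOpen (CohB1.polyGrading n k) (X j)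
      have hS : S.Nonempty := by
        obtain ⟨i, hi⟩ := exists_mem_basicOpen n k P
        exact ⟨i, by simp only [S, Finset.mem_filter, Finset.mem_univ, true_and]; exact hi⟩
      set i := S.min' hS with hidef
      have hi : P ∈ Proj.basicOpen (CohB1.polyGrading n k) (X i) := (Finset.mem_filter.mp (S.min'_mem hS)).2
      have hrange : Set.range g ⊆ Set.range (chartι n k i) := by
        rintro _ ⟨s, rfl⟩
        rw [show s = IsLocalRing.closedPoint F from Subsingleton.elim (α := PrimeSpectrum F) _ _]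
        rw [← Proj.opensRange_awayι (CohB1.polyGrading n k) (X i) (ZetaLib.X_mem n k i) one_pos] at hi
        exact hi
      obtain ⟨ψ, hψ⟩ : ∃ ψ : HomogeneousLocalization.Away (CohB1.polyGrading n k) (X i) →+* F,
          Spec.map (CommRingCat.ofHom ψ) ≫ chartι n k i = g :=
        ⟨(Spec.preimage (IsOpenImmersion.lift (chartι n k i) g hrange)).hom, by
          rw [CommRingCat.ofHom_hom, Spec.map_preimage]
          exact IsOpenImmersion.lift_fac _ _ _⟩
      let v : Fin (n + 1) → F := fun j => ψ (dh n k i (X j))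
      have hv0 : ∀ j < i, v j = 0 := fun j hj => by
        by_contra h
        have hj' : j ∈ S := Finset.mem_filter.mpr ⟨Finset.mem_univ _, by
          change g (IsLocalRing.closedPoint F) ∈ _
          rw [← hψ]
          exact (chart_mem_iff n k ψ j).mpr h⟩
        exact absurd (S.min'_le j hj') (not_le.mpr hj)
      have hv1 : v i = 1 := by simp only [v, dh_self, map_one]
      refine ⟨⟨i, v, hv1, hv0⟩, Subtype.ext ?_⟩
      refine Eq.trans (congrArg (fun e => Spec.map (CommRingCat.ofHom e) ≫ chartι n k i) ?_) hψ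
      refine RingHom.ext fun y => ?_
      obtain ⟨p, rfl⟩ := dehom_surjective (CohB1.polyGrading n k) (ZetaLib.X_mem n k i) y
      have hcomp : ψ.comp (dh n k i) = (MvPolynomial.aeval v : MvPolynomial (Fin (n + 1)) k →ₐ[k] F).toRingHom := by
        refine MvPolynomial.ringHom_ext (fun r => ?_) fun j => by simp [v]
        have h1 : (Spec.map (CommRingCat.ofHom ψ) ≫ chartι n k i) ≫ str n k =
            Spec.map (CommRingCat.ofHom (algebraMap k F)) := by rw [hψ]; exact hg
        have h2 := congrArg CommRingCat.Hom.hom (Spec.map_injective ((chart_comp_toSpec n k i ψ).symm.trans h1))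
        simpa using RingHom.congr_fun h2 r
      exact (RingHom.congr_fun (hφ _) p).trans (RingHom.congr_fun hcomp p).symm
    · rw [card_strata]
      exact (pointCount_projSpace (F := F) n k).symm
  let e₁ : { g : Spec (CommRingCat.of F) ⟶ (hypIdeal G).subscheme //
      g ≫ (hypIdeal G).subschemeι ≫ CohB1.ProjSpace.toSpec n k = Spec.map (CommRingCat.ofHom (algebraMap k F)) } ≃
      { g : Pts // hypIdeal G ≤ g.1.ker } :=
    { toFun := fun h => ⟨⟨h.1 ≫ (hypIdeal G).subschemeι, (Category.assoc _ _ _).trans h.2⟩,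
        ((hypIdeal G).ker_subschemeι).ge.trans (Scheme.Hom.le_ker_comp _ _)⟩
      invFun := fun g => ⟨IsClosedImmersion.lift (hypIdeal G).subschemeι g.1.1
          (((hypIdeal G).ker_subschemeι).le.trans g.2), by
        rw [IsClosedImmersion.lift_fac_assoc]; exact g.1.2⟩
      left_inv := fun h => Subtype.ext ((cancel_mono (hypIdeal G).subschemeι).1 (IsClosedImmersion.lift_fac _ _ _))
      right_inv := fun g => Subtype.ext (Subtype.ext (IsClosedImmersion.lift_fac _ _ _)) }
  rw [Nat.card_congr e₁]
  exact (Nat.card_congr ((Equiv.ofBijective Φ hΦ).subtypeEquiv fun p =>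
    (hypIdeal_le_ker_iff p.1 (φ p) p.2.1 (hφ p) G).symm)).symm

end Groth.Agent.QuadricCount
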