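import Mathlib.LinearAlgebra.QuadraticForm.Basic
import Mathlib.LinearAlgebra.QuadraticForm.Basis
import Mathlib.FieldTheory.ChevalleyWarning
import Mathlib.LinearAlgebra.FiniteDimensional.Lemmas
import Mathlib.LinearAlgebra.FreeModule.Finite.Basic

/-!
# Zeros of quadratic forms without singular zeros over finite fields

Such a form in an odd number `2 t + 1` of variables has `q ^ (2 t)` zeros; in `2 t + 2` variables it has
`q ^ (2 t + 1) + ε (q ^ (t + 1) - q ^ t)` zeros, where `ε = 1` if there is a totally singular subspace of dimension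
`t + 1` and `ε = -1` otherwise.  The characteristic is arbitrary.
-/

set_option autoImplicit false

universe u

noncomputable section

open Module

namespace Groth.Agent.QuadricCount

variable {k : Type u} [Field k]

/-- No non-zero zero is orthogonal to everything. -/
def NS {V : Type u} [AddCommGroup V] [Module k V] (Q : QuadraticForm k V) : Prop :=
  ∀ v, Q v = 0 → (∀ w, QuadraticMap.polar Q v w = 0) → v = 0

/-- There is a totally singular subspace of dimension `r`. -/
def HasIso {V : Type u} [AddCommGroup V] [Module k V] (Q : QuadraticForm k V) (r : ℕ) : Prop :=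
  ∃ U : Submodule k V, finrank k U = r ∧ ∀ u ∈ U, Q u = 0

variable [Fintype k] {V : Type u} [AddCommGroup V] [Module k V] [FiniteDimensional k V]

theorem exists_zero_of_three (Q : QuadraticForm k V) (hd : 3 ≤ finrank k V) : ∃ v, v ≠ 0 ∧ Q v = 0 := by
  classical
  obtain ⟨p, _⟩ := CharP.exists k
  haveI : Fact p.Prime := ⟨CharP.char_is_prime k p⟩
  let b := Module.finBasis k V
  let B₀ := Q.toBilin b
  let f : MvPolynomial (Fin (finrank k V)) k :=
    ∑ i, ∑ j, MvPolynomial.C (B₀ (b i) (b j)) * (MvPolynomial.X i * MvPolynomial.X j)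
  have hdeg : f.totalDegree ≤ 2 := by
    refine (MvPolynomial.totalDegree_finsetSum_le fun i _ => MvPolynomial.totalDegree_finsetSum_le fun j _ => ?_)
    refine (MvPolynomial.totalDegree_mul _ _).trans ?_
    rw [MvPolynomial.totalDegree_C, zero_add]
    refine (MvPolynomial.totalDegree_mul _ _).trans ?_
    rw [MvPolynomial.totalDegree_X, MvPolynomial.totalDegree_X]
  have heval : ∀ x : Fin (finrank k V) → k, MvPolynomial.eval x f = Q (∑ i, x i • b i) := fun x => by
    have h : Q (∑ i, x i • b i) = B₀ (∑ i, x i • b i) (∑ i, x i • b i) := by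
      conv_lhs => rw [← QuadraticMap.toQuadraticMap_toBilin Q b]
      rfl
    rw [h]
    simp only [f, map_sum, map_mul, map_smul, LinearMap.coe_sum, Finset.sum_apply, LinearMap.smul_apply,
      smul_eq_mul, MvPolynomial.eval_C, MvPolynomial.eval_X]
    simp only [Finset.mul_sum]
    rw [Finset.sum_comm]
    exact Finset.sum_congr rfl fun i _ => Finset.sum_congr rfl fun j _ => by ring
  have hdvd := char_dvd_card_solutions p (f := f) (hdeg.trans_lt (by rw [Fintype.card_fin]; omega))
  have h0 : MvPolynomial.eval (0 : Fin (finrank k V) → k) f = 0 := by rw [heval]; simp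
  haveI : Nonempty { x : Fin (finrank k V) → k // MvPolynomial.eval x f = 0 } := ⟨⟨0, h0⟩⟩
  have hlt : 1 < Fintype.card { x : Fin (finrank k V) → k // MvPolynomial.eval x f = 0 } := by
    have := (Fact.out : p.Prime).two_le
    have := Nat.le_of_dvd Fintype.card_pos hdvd
    omega
  obtain ⟨⟨x, hx⟩, hne⟩ := Fintype.exists_ne_of_one_lt_card hlt ⟨0, h0⟩
  refine ⟨∑ i, x i • b i, fun h => hne (Subtype.ext (funext fun i => ?_)), by rw [← heval]; exact hx⟩
  exact Fintype.linearIndependent_iff.1 b.linearIndependent x h i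

omit [Fintype k] [FiniteDimensional k V] in
theorem exists_partner {Q : QuadraticForm k V} (hQ : NS Q) {v : V} (hv : v ≠ 0) (hv0 : Q v = 0) :
    ∃ w, Q w = 0 ∧ QuadraticMap.polar Q v w = 1 := by
  obtain ⟨w, hw⟩ : ∃ w, QuadraticMap.polar Q v w ≠ 0 := by
    by_contra h
    push Not at h
    exact hv (hQ v hv0 h)
  let w₁ := (QuadraticMap.polar Q v w)⁻¹ • w
  have hw₁ : QuadraticMap.polar Q v w₁ = 1 := by
    rw [QuadraticMap.polar_smul_right, smul_eq_mul, inv_mul_cancel₀ hw]
  refine ⟨w₁ + (-Q w₁) • v, ?_, ?_⟩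
  · rw [QuadraticMap.map_add (⇑Q), QuadraticMap.map_smul Q (-Q w₁) v, QuadraticMap.polar_smul_right Q (-Q w₁), QuadraticMap.polar_comm _ w₁ v, hv0, hw₁]
    simp
  · rw [QuadraticMap.polar_add_right, QuadraticMap.polar_smul_right Q (-Q w₁), QuadraticMap.polar_self, hv0, hw₁]
    simp

section Split

variable {Q : QuadraticForm k V} {v w : V} (hv : Q v = 0) (hw : Q w = 0) (hvw : QuadraticMap.polar Q v w = 1)

variable (Q v w) in
/-- The orthogonal of a hyperbolic pair. -/
def perp : Submodule k V := LinearMap.ker (Q.polarBilin v) ⊓ LinearMap.ker (Q.polarBilin w)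

omit [Fintype k] [FiniteDimensional k V] in
theorem mem_perp {x : V} : x ∈ perp Q v w ↔ QuadraticMap.polar Q v x = 0 ∧ QuadraticMap.polar Q w x = 0 := by
  simp [perp]

omit [Fintype k] [FiniteDimensional k V] in
include hv hw hvw in
theorem exists_split : ∃ e : (k × k × perp Q v w) ≃ₗ[k] V,
    (∀ z, e z = z.1 • v + z.2.1 • w + (z.2.2 : V)) ∧ ∀ z, Q (e z) = z.1 * z.2.1 + Q z.2.2 := by
  have hwv : QuadraticMap.polar Q w v = 1 := by rw [QuadraticMap.polar_comm, hvw]
  have hvv : QuadraticMap.polar Q v v = 0 := by rw [QuadraticMap.polar_self, hv, smul_zero]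
  have hww : QuadraticMap.polar Q w w = 0 := by rw [QuadraticMap.polar_self, hw, smul_zero]
  let f : (k × k × perp Q v w) →ₗ[k] V :=
    (LinearMap.toSpanSingleton k V v).coprod ((LinearMap.toSpanSingleton k V w).coprod (perp Q v w).subtype)
  have hf : ∀ z, f z = z.1 • v + z.2.1 • w + (z.2.2 : V) := fun z => by
    simp [f, add_assoc]
  have hb : Function.Bijective f := by
    constructor
    · rw [← LinearMap.ker_eq_bot, LinearMap.ker_eq_bot']
      rintro ⟨a, b, x⟩ hz
      rw [hf] at hz
      have hx := mem_perp.1 x.2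
      have h1 := congrArg (QuadraticMap.polar Q v) hz
      have h2 := congrArg (QuadraticMap.polar Q w) hz
      simp only [QuadraticMap.polar_add_right, QuadraticMap.polar_smul_right, QuadraticMap.polar_zero_right, hvv, hvw,
        hwv, hww, hx.1, hx.2, smul_eq_mul, mul_zero, mul_one, add_zero, zero_add] at h1 h2
      subst h1 h2
      simp only [zero_smul, zero_add] at hz
      simp only [Prod.mk_eq_zero, true_and]
      exact Subtype.ext hz
    · intro u
      refine ⟨(QuadraticMap.polar Q w u, QuadraticMap.polar Q v u,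
        ⟨u - QuadraticMap.polar Q w u • v - QuadraticMap.polar Q v u • w, mem_perp.2 ⟨?_, ?_⟩⟩), ?_⟩
      · simp [QuadraticMap.polar_sub_right, QuadraticMap.polar_smul_right, hvv, hvw]
      · simp [QuadraticMap.polar_sub_right, QuadraticMap.polar_smul_right, hwv, hww]
      · rw [hf]
        module
  refine ⟨LinearEquiv.ofBijective f hb, fun z => hf z, fun z => ?_⟩
  obtain ⟨a, b, x⟩ := z
  rw [LinearEquiv.ofBijective_apply, hf]
  have hx := mem_perp.1 x.2
  simp only [QuadraticMap.map_add (⇑Q), QuadraticMap.map_smul, QuadraticMap.polar_add_left, QuadraticMap.polar_smul_left,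
    QuadraticMap.polar_smul_right, hv, hw, hvw, hx.1, hx.2, smul_eq_mul]
  ring

omit [FiniteDimensional k V] in
theorem card_pairs (c : k) [Decidable (c = 0)] :
    (Nat.card { p : k × k // p.1 * p.2 + c = 0 } : ℤ) =
      if c = 0 then 2 * (Fintype.card k : ℤ) - 1 else (Fintype.card k : ℤ) - 1 := by
  classical
  have hq : 1 ≤ Fintype.card k := Fintype.card_pos
  split_ifs with hc
  · subst hc
    let e : k ⊕ kˣ ≃ { p : k × k // p.1 * p.2 + 0 = 0 } :=
      { toFun := Sum.elim (fun a => ⟨(a, 0), by simp⟩) (fun u : kˣ => ⟨(0, (u : k)), by simp⟩)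
        invFun := fun p => if h : p.1.2 = 0 then Sum.inl p.1.1 else Sum.inr (Units.mk0 _ h)
        left_inv := fun s => by rcases s with a | u <;> simp
        right_inv := fun p => by
          obtain ⟨⟨a, b⟩, hp⟩ := p
          by_cases h : b = 0
          · subst h; simp
          · rw [add_zero, mul_eq_zero] at hp
            obtain rfl : a = 0 := hp.resolve_right h
            simp [h] }
    rw [← Nat.card_congr e, Nat.card_sum, Nat.card_eq_fintype_card, Nat.card_eq_fintype_card, Fintype.card_units]
    push_cast [Nat.cast_sub hq]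
    ring
  · let e : kˣ ≃ { p : k × k // p.1 * p.2 + c = 0 } :=
      { toFun := fun u => ⟨((u : k), -c * (u : k)⁻¹), by field_simp; ring⟩
        invFun := fun p => Units.mk0 p.1.1 fun h => hc (by simpa [h] using p.2)
        left_inv := fun u => Units.ext rfl
        right_inv := fun p => by
          obtain ⟨⟨a, b⟩, hp⟩ := p
          have ha : a ≠ 0 := fun h => hc (by simpa [h] using hp)
          refine Subtype.ext (Prod.ext rfl ?_)
          simp only [Units.val_mk0]
          field_simp
          linear_combination -hp }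
    rw [← Nat.card_congr e, Nat.card_eq_fintype_card, Fintype.card_units, Nat.cast_sub hq, Nat.cast_one]

include hv hw hvw in
theorem card_zeros_split : finrank k V = finrank k (perp Q v w) + 2 ∧
    (Nat.card { x : V // Q x = 0 } : ℤ) =
      Fintype.card k * (Nat.card { x : perp Q v w // Q x = 0 } : ℤ) +
        ((Fintype.card k : ℤ) - 1) * (Fintype.card k : ℤ) ^ finrank k (perp Q v w) := by
  classical
  obtain ⟨e, -, he⟩ := exists_split hv hw hvw
  refine ⟨?_, ?_⟩
  · rw [← e.finrank_eq, Module.finrank_prod, Module.finrank_prod, Module.finrank_self]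
    omega
  haveI : Finite V := Module.finite_of_finite k
  letI := Fintype.ofFinite (perp Q v w)
  let σ : (Σ x : perp Q v w, { p : k × k // p.1 * p.2 + Q x = 0 }) ≃ { x : V // Q x = 0 } :=
    { toFun := fun s => ⟨e (s.2.1.1, s.2.1.2, s.1), by rw [he]; exact s.2.2⟩
      invFun := fun x => ⟨(e.symm x.1).2.2, ⟨((e.symm x.1).1, (e.symm x.1).2.1), by
        rw [← he, LinearEquiv.apply_symm_apply]; exact x.2⟩⟩
      left_inv := fun s => by
        obtain ⟨x, ⟨⟨a, b⟩, hp⟩⟩ := s
        refine Sigma.subtype_ext ?_ ?_ <;> simp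
      right_inv := fun x => Subtype.ext (e.apply_symm_apply x.1) }
  rw [← Nat.card_congr σ, Nat.card_sigma, Nat.cast_sum]
  rw [Finset.sum_congr rfl fun (x : perp Q v w) _ => card_pairs (Q (x : V))]
  rw [Finset.sum_ite, Finset.sum_const, Finset.sum_const, nsmul_eq_mul, nsmul_eq_mul]
  have h1 : (Finset.univ.filter fun x : perp Q v w => Q (x : V) = 0).card = Nat.card { x : perp Q v w // Q x = 0 } := by
    rw [Nat.card_eq_fintype_card, Fintype.card_subtype]
  have h2 := Finset.card_filter_add_card_filter_not (s := (Finset.univ : Finset (perp Q v w)))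
    (fun x => Q (x : V) = 0)
  rw [Finset.card_univ, ← Nat.card_eq_fintype_card, Module.natCard_eq_pow_finrank (K := k)] at h2
  rw [h1] at h2 ⊢
  have h2' := congrArg (Nat.cast : ℕ → ℤ) h2
  push_cast [Nat.card_eq_fintype_card] at h2' ⊢
  linear_combination ((Fintype.card k : ℤ) - 1) * h2'

omit [Fintype k] [FiniteDimensional k V] in
include hv hw hvw in
theorem ns_perp (hQ : NS Q) : NS (Q.comp (perp Q v w).subtype) := by
  obtain ⟨e, hez, -⟩ := exists_split hv hw hvw
  intro x hx h
  refine Subtype.ext (hQ x hx fun u => ?_)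
  rw [← e.apply_symm_apply u, hez]
  have hx' := mem_perp.1 x.2
  rw [QuadraticMap.polar_add_right, QuadraticMap.polar_add_right, QuadraticMap.polar_smul_right,
    QuadraticMap.polar_smul_right, QuadraticMap.polar_comm _ (x : V) v, QuadraticMap.polar_comm _ (x : V) w, hx'.1,
    hx'.2, smul_zero, smul_zero, zero_add, zero_add]
  exact h (e.symm u).2.2

omit [Fintype k] in
include hv hw hvw in
theorem hasIso_perp {r : ℕ} {U : Submodule k V} (hU : finrank k U = r + 1) (hU0 : ∀ u ∈ U, Q u = 0) (hvU : v ∈ U) :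
    HasIso (Q.comp (perp Q v w).subtype) r := by
  have hv' : ∀ u ∈ U, QuadraticMap.polar Q v u = 0 := fun u hu => by
    rw [QuadraticMap.polar, hU0 _ (add_mem hvU hu), hU0 _ hvU, hU0 _ hu]
    simp
  let g : U →ₗ[k] k := (Q.polarBilin w).comp U.subtype
  have hg : Function.Surjective g := fun c => ⟨c • ⟨v, hvU⟩, by
    simp [g, QuadraticMap.polar_comm _ w v, hvw]⟩
  have hker : finrank k (LinearMap.ker g) = r := by
    have := LinearMap.finrank_range_add_finrank_ker g
    rw [LinearMap.range_eq_top.2 hg, finrank_top, Module.finrank_self, hU] at this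
    omega
  let h : LinearMap.ker g →ₗ[k] perp Q v w :=
    (U.subtype.comp (LinearMap.ker g).subtype).codRestrict _ fun u => mem_perp.2 ⟨hv' _ u.1.2, LinearMap.mem_ker.1 u.2⟩
  have hh : Function.Injective h := fun a b e => by
    have := congrArg (fun x : perp Q v w => (x : V)) e
    exact Subtype.ext (Subtype.ext this)
  refine ⟨LinearMap.range h, by rw [LinearMap.finrank_range_of_inj hh, hker], ?_⟩
  rintro _ ⟨u, rfl⟩
  exact hU0 _ u.1.2

omit [Fintype k] [FiniteDimensional k V] in
include hv hw hvw in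
theorem hasIso_of_perp {r : ℕ} [FiniteDimensional k V] (h : HasIso (Q.comp (perp Q v w).subtype) r) :
    HasIso Q (r + 1) := by
  obtain ⟨e, -, he⟩ := exists_split hv hw hvw
  obtain ⟨U, hU, hU0⟩ := h
  let g : (k × U) →ₗ[k] V :=
    e.toLinearMap.comp ((LinearMap.fst k k U).prod ((0 : (k × U) →ₗ[k] k).prod (U.subtype.comp (LinearMap.snd k k U))))
  have hg : Function.Injective g := fun a b hab => by
    have : ((a.1, (0 : k), (a.2 : perp Q v w)) : k × k × perp Q v w) = (b.1, 0, (b.2 : perp Q v w)) :=
      e.injective hab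
    have h1 : a.1 = b.1 := congrArg (fun z : k × k × perp Q v w => z.1) this
    have h2 : (a.2 : perp Q v w) = b.2 := congrArg (fun z : k × k × perp Q v w => z.2.2) this
    exact Prod.ext h1 (Subtype.ext h2)
  refine ⟨LinearMap.range g, ?_, ?_⟩
  · rw [LinearMap.finrank_range_of_inj hg, Module.finrank_prod, Module.finrank_self, hU, add_comm]
  · rintro _ ⟨⟨c, u⟩, rfl⟩
    rw [show g (c, u) = e (c, 0, (u : perp Q v w)) from rfl, he, mul_zero, zero_add]
    exact hU0 _ u.2

end Split

open Classical in
/-- The number of zeros. -/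
theorem card_zeros (d : ℕ) : ∀ (V : Type u) [AddCommGroup V] [Module k V] [FiniteDimensional k V]
    (Q : QuadraticForm k V), finrank k V = d → NS Q →
    (∀ t, d = 2 * t + 1 → (Nat.card { x : V // Q x = 0 } : ℤ) = (Fintype.card k : ℤ) ^ (2 * t)) ∧
    (∀ t, d = 2 * t + 2 → (Nat.card { x : V // Q x = 0 } : ℤ) = (Fintype.card k : ℤ) ^ (2 * t + 1) +
      (if HasIso Q (t + 1) then 1 else -1) * ((Fintype.card k : ℤ) ^ (t + 1) - (Fintype.card k : ℤ) ^ t)) := by
  induction d using Nat.strong_induction_on with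
  | _ d ih =>
    intro V _ _ _ Q hd hQ
    by_cases hex : ∃ v, v ≠ 0 ∧ Q v = 0
    · refine ⟨fun t ht => ?_, fun t ht => ?_⟩
      · obtain ⟨v, hv, hv0⟩ := hex
        obtain ⟨w, hw0, hvw⟩ := exists_partner hQ hv hv0
        obtain ⟨hdim, hcard⟩ := card_zeros_split hv0 hw0 hvw
        obtain ⟨s, rfl⟩ : ∃ s, t = s + 1 := ⟨t - 1, by omega⟩
        have hm : finrank k (perp Q v w) = 2 * s + 1 := by omega
        have hih : (Nat.card { x : perp Q v w // Q x = 0 } : ℤ) = (Fintype.card k : ℤ) ^ (2 * s) :=
          (ih (2 * s + 1) (by omega) _ (Q.comp (perp Q v w).subtype) hm (ns_perp hv0 hw0 hvw hQ)).1 s rfl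
        rw [hcard, hm, hih]
        ring
      · obtain ⟨v, hv, hv0, hvU⟩ : ∃ v : V, v ≠ 0 ∧ Q v = 0 ∧
            (HasIso Q (t + 1) → ∃ U : Submodule k V, finrank k U = t + 1 ∧ (∀ u ∈ U, Q u = 0) ∧ v ∈ U) := by
          by_cases h : HasIso Q (t + 1)
          · obtain ⟨U, hU, hU0⟩ := h
            haveI : Nontrivial U := Module.nontrivial_of_finrank_eq_succ hU
            obtain ⟨⟨v, hvU⟩, hv⟩ := exists_ne (0 : U)
            exact ⟨v, fun e => hv (Subtype.ext e), hU0 v hvU, fun _ => ⟨U, hU, hU0, hvU⟩⟩
          · obtain ⟨v, hv, hv0⟩ := hex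
            exact ⟨v, hv, hv0, fun h' => absurd h' h⟩
        obtain ⟨w, hw0, hvw⟩ := exists_partner hQ hv hv0
        obtain ⟨hdim, hcard⟩ := card_zeros_split hv0 hw0 hvw
        have hm : finrank k (perp Q v w) = 2 * t := by omega
        rw [hcard, hm]
        have hiff : HasIso Q (t + 1) ↔ HasIso (Q.comp (perp Q v w).subtype) t :=
          ⟨fun h => by
            obtain ⟨U, hU, hU0, hvU'⟩ := hvU h
            exact hasIso_perp hv0 hw0 hvw hU hU0 hvU',
          fun h => hasIso_of_perp hv0 hw0 hvw h⟩
        rcases t with - | s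
        · have htriv : HasIso (Q.comp (perp Q v w).subtype) 0 := ⟨⊥, finrank_bot _ _, fun u hu => by
            rw [(Submodule.mem_bot k).1 hu, QuadraticMap.map_zero]⟩
          haveI : Subsingleton (perp Q v w) := Module.finrank_zero_iff.1 hm
          haveI : Unique { x : perp Q v w // Q x = 0 } :=
            ⟨⟨⟨0, by simp⟩⟩, fun x => Subtype.ext (Subsingleton.elim _ _)⟩
          rw [Nat.card_unique, if_pos (hiff.2 htriv)]
          ring
        · have hih : (Nat.card { x : perp Q v w // Q x = 0 } : ℤ) = (Fintype.card k : ℤ) ^ (2 * s + 1) +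
              (if HasIso (Q.comp (perp Q v w).subtype) (s + 1) then 1 else -1) *
                ((Fintype.card k : ℤ) ^ (s + 1) - (Fintype.card k : ℤ) ^ s) :=
            (ih (2 * (s + 1)) (by omega) _ (Q.comp (perp Q v w).subtype) hm (ns_perp hv0 hw0 hvw hQ)).2 s (by omega)
          rw [hih, if_congr hiff rfl rfl]
          ring
    · push Not at hex
      haveI : Unique { x : V // Q x = 0 } :=
        ⟨⟨⟨0, by simp⟩⟩, fun x => Subtype.ext (by_contra fun h => hex _ h x.2)⟩
      have hd3 : finrank k V < 3 := by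
        by_contra h
        obtain ⟨v, hv, hv0⟩ := exists_zero_of_three Q (by omega)
        exact hex v hv hv0
      refine ⟨fun t ht => ?_, fun t ht => ?_⟩
      · obtain rfl : t = 0 := by omega
        simp
      · obtain rfl : t = 0 := by omega
        rw [if_neg]
        · simp
        rintro ⟨U, hU, hU0⟩
        haveI : Nontrivial U := Module.nontrivial_of_finrank_eq_succ hU
        obtain ⟨⟨v, hvU⟩, hv⟩ := exists_ne (0 : U)
        exact hex v (fun e => hv (Subtype.ext e)) (hU0 v hvU)

end Groth.Agent.QuadricCount
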