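import Groth.Agent.LefHyp.Space
import Groth.Agent.QuadricCount.Linear
import Mathlib.RingTheory.MvPolynomial.Homogeneous

/-!
# The quadratic form of a smooth quadric
-/

set_option autoImplicit false

universe u

noncomputable section

open MvPolynomial CategoryTheory AlgebraicGeometry

namespace Groth.Agent.QuadricCount

variable {k : Type u} [Field k] {σ : Type} [Fintype σ]

theorem exists_sum_mul_of_isHomogeneous {p : MvPolynomial σ k} (hp : p.IsHomogeneous 2) :
    ∃ c : σ → σ → k, p = ∑ i, ∑ j, C (c i j) * (X i * X j) := by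
  classical
  rw [← p.support_sum_monomial_coeff]
  refine Finset.sum_induction _ (fun p => ∃ c : σ → σ → k, p = ∑ i, ∑ j, C (c i j) * (X i * X j)) ?_
    ⟨0, by simp⟩ (fun d hd => ?_)
  · rintro a b ⟨c, rfl⟩ ⟨c', rfl⟩
    refine ⟨c + c', ?_⟩
    simp [Finset.sum_add_distrib, add_mul]
  · have hdeg : d.degree = 2 := by
      have := hp (mem_support_iff.1 hd)
      rwa [Finsupp.degree_eq_weight_one]
    obtain ⟨i, j, rfl⟩ : ∃ i j, d = Finsupp.single i 1 + Finsupp.single j 1 := by
      have hne : d ≠ 0 := fun h => by rw [h, map_zero] at hdeg; omega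
      obtain ⟨i, hi⟩ := Finsupp.support_nonempty_iff.2 hne
      have hi' : 1 ≤ d i := Nat.one_le_iff_ne_zero.2 (Finsupp.mem_support_iff.1 hi)
      have hle : Finsupp.single i 1 ≤ d := Finsupp.single_le_iff.2 hi'
      have e := tsub_add_cancel_of_le hle
      have h1 : (d - Finsupp.single i 1).degree = 1 := by
        have := congrArg Finsupp.degree e
        rw [map_add, hdeg, Finsupp.degree_single] at this
        omega
      obtain ⟨j, hj⟩ := (Finsupp.sum_eq_one_iff _).1 (show (d - Finsupp.single i 1).sum (fun _ n => n) = 1 from h1)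
      exact ⟨j, i, by rw [← e, hj]⟩
    refine ⟨fun a b => if a = i ∧ b = j then coeff (Finsupp.single i 1 + Finsupp.single j 1) p else 0, ?_⟩
    rw [Finset.sum_eq_single i, Finset.sum_eq_single j]
    · simp [X, monomial_mul, C_mul_monomial]
    · intro b _ hb; simp [hb]
    · simp
    · intro b _ hb; simp [hb]
    · simp

/-- A quadratic form of a form of degree two. -/
theorem exists_quadraticForm {p : MvPolynomial σ k} (hp : p.IsHomogeneous 2) :
    ∃ Q : QuadraticForm k (σ → k), (∀ v, Q v = eval v p) ∧
      ∀ v i [DecidableEq σ], QuadraticMap.polar Q v (Pi.single i 1) = eval v (pderiv i p) := by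
  classical
  obtain ⟨c, rfl⟩ := exists_sum_mul_of_isHomogeneous hp
  let B : LinearMap.BilinMap k (σ → k) k :=
    LinearMap.mk₂ k (fun v w => ∑ i, ∑ j, c i j * (v i * w j))
      (fun a b w => by simp [add_mul, mul_add, Finset.sum_add_distrib])
      (fun r a w => by simp [Finset.mul_sum, mul_left_comm, mul_assoc])
      (fun v a b => by simp [mul_add, Finset.sum_add_distrib])
      (fun r v a => by simp [Finset.mul_sum, mul_left_comm])
  refine ⟨B.toQuadraticMap, fun v => by simp [B], fun v l inst => ?_⟩
  have : inst = Classical.decEq σ := Subsingleton.elim _ _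
  subst this
  rw [LinearMap.BilinMap.polar_toQuadraticMap]
  simp only [B, LinearMap.mk₂_apply, map_sum, Derivation.leibniz, pderiv_C, pderiv_X, smul_eq_mul, mul_zero,
    add_zero, map_mul, map_add, eval_C, eval_X, mul_add, Finset.sum_add_distrib]
  congr 1 <;>
  · refine Finset.sum_congr rfl fun i _ => Finset.sum_congr rfl fun j _ => ?_
    simp [Pi.single_apply, apply_ite (eval v)]

variable {n : ℕ}

theorem eval_setOne (j : Fin (n + 1)) (w : Fin (n + 1) → k) (hj : w j = 1) (p : MvPolynomial (Fin (n + 1)) k) :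
    eval (w ∘ j.succAbove) (LefHyp.setOne (k := k) j p) = eval w p := by
  have h : (aeval (w ∘ j.succAbove)).comp (LefHyp.setOne (k := k) j) = aeval w := by
    refine MvPolynomial.algHom_ext fun l => ?_
    induction l using Fin.succAboveCases j with
    | x => simp [LefHyp.setOne, hj]
    | p i => simp [LefHyp.setOne]
  have := AlgHom.congr_fun h p
  simpa [AlgHom.comp_apply, aeval_def, eval_eq] using this

theorem pderiv_setOne (j : Fin (n + 1)) (i : Fin n) (p : MvPolynomial (Fin (n + 1)) k) :
    pderiv i (LefHyp.setOne (k := k) j p) = LefHyp.setOne (k := k) j (pderiv (j.succAbove i) p) := by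
  induction p using MvPolynomial.induction_on with
  | C a => simp [LefHyp.setOne]
  | add p q hp hq => simp [hp, hq]
  | mul_X p l hp =>
    induction l using Fin.succAboveCases j with
    | x => simp [LefHyp.setOne] at hp ⊢; simp [hp, Pi.single_apply, Fin.succAbove_ne]
    | p m =>
      simp only [map_mul, Derivation.leibniz, map_add, smul_eq_mul, hp]
      simp [LefHyp.setOne, Pi.single_apply, Fin.succAbove_right_inj]

theorem ns_of_smooth (G : LefPen.Form n k 2)
    [Smooth ((LefPen.hypIdeal G).subschemeι ≫ CohB1.ProjSpace.toSpec n k)]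
    (hne : ∀ j, LefHyp.setOne (k := k) j G.1 ≠ 0) (Q : QuadraticForm k (Fin (n + 1) → k))
    (hQ : ∀ v, Q v = eval v G.1)
    (hQ' : ∀ v i, QuadraticMap.polar Q v (Pi.single i 1) = eval v (pderiv i G.1)) : NS Q := by
  intro v hv h
  by_contra hv'
  obtain ⟨j, hj⟩ := Function.ne_iff.1 hv'
  let w := (v j)⁻¹ • v
  have hw : w j = 1 := by simp [w, inv_mul_cancel₀ (show v j ≠ 0 from hj)]
  have hw0 : eval w G.1 = 0 := by rw [← hQ, QuadraticMap.map_smul, hv, smul_zero]
  have hwd : ∀ i, eval w (pderiv i G.1) = 0 := fun i => by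
    rw [← hQ', QuadraticMap.polar_smul_left, h, smul_zero]
  let P : Ideal (MvPolynomial (Fin n) k) := RingHom.ker (eval (w ∘ j.succAbove))
  have hsm := (LefHyp.smooth_hypersurface_iff G).1 inferInstance j
  obtain ⟨i, hi⟩ := (LefHyp.smooth_quotient_iff (hne j)).1 hsm P (RingHom.ker_isPrime _) (by
    rw [RingHom.mem_ker, eval_setOne j w hw, hw0])
  refine hi ?_
  rw [RingHom.mem_ker, pderiv_setOne, eval_setOne j w hw, hwd]

end Groth.Agent.QuadricCount
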