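import Groth.Agent.QuadricCount.Points
import Groth.Agent.QuadricCount.Form
import Groth.Agent.CAlg76.SmoothRelDim

/-!
# Points of smooth quadrics over finite fields
-/

set_option autoImplicit false
set_option backward.isDefEq.respectTransparency false

universe u

noncomputable section

open CategoryTheory AlgebraicGeometry MvPolynomial

namespace Groth.Agent.QuadricCount

open LefPen

variable {k : Type u} [Field k]

theorem setOne_ne_zero {n : ℕ} (G : Form n k 2) (hG : G.1 ≠ 0) (j : Fin (n + 1)) :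
    LefHyp.setOne (k := k) j G.1 ≠ 0 := by
  classical
  intro h
  refine hG ?_
  have hhom : G.1.IsHomogeneous 2 := (mem_homogeneousSubmodule 2 _).1 G.2
  have hmon : ∀ d : Fin (n + 1) →₀ ℕ, ∀ c : k, LefHyp.setOne (k := k) j (monomial d c) =
      monomial (Finsupp.equivFunOnFinite.symm fun i => d (j.succAbove i)) c := fun d c => by
    rw [LefHyp.setOne, aeval_monomial, monomial_eq, Finsupp.prod_fintype _ _ (fun i => pow_zero _),
      Finsupp.prod_fintype _ _ (fun i => pow_zero _), Fin.prod_univ_succAbove _ j]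
    simp [MvPolynomial.algebraMap_eq]
  refine MvPolynomial.ext _ _ fun d => ?_
  rw [coeff_zero]
  by_contra hd
  have hdeg : d.degree = 2 := by
    have := hhom hd
    rwa [Finsupp.degree_eq_weight_one]
  have h' := congrArg (coeff (Finsupp.equivFunOnFinite.symm fun i => d (j.succAbove i))) h
  rw [coeff_zero, G.1.as_sum, map_sum, coeff_sum, Finset.sum_eq_single d] at h'
  · rw [hmon, coeff_monomial, if_pos rfl] at h'
    exact hd h'
  · intro e he hne
    rw [hmon, coeff_monomial, if_neg]
    intro heq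
    have he2 : e.degree = 2 := by
      have := hhom (mem_support_iff.1 he)
      rwa [Finsupp.degree_eq_weight_one]
    have hfun : ∀ i, e (j.succAbove i) = d (j.succAbove i) := fun i => DFunLike.congr_fun heq i
    refine hne (Finsupp.ext fun l => ?_)
    induction l using Fin.succAboveCases j with
    | x =>
      rw [Finsupp.degree_eq_sum, Fin.sum_univ_succAbove _ j] at he2 hdeg
      rw [Finset.sum_congr rfl fun i _ => hfun i] at he2
      omega
    | p i => exact hfun i
  · intro hd'
    rw [hmon, coeff_monomial, if_pos rfl]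
    exact notMem_support_iff.1 hd'

/-- A quadric which is smooth of the expected dimension is not the whole space. -/
theorem form_ne_zero {n : ℕ} (G : Form (n + 1) k 2)
    [hX : SmoothOfRelativeDimension n ((hypIdeal G).subschemeι ≫ CohB1.ProjSpace.toSpec (n + 1) k)] : G.1 ≠ 0 := by
  intro hG
  have h0 : hypIdeal G = ⊥ := by
    refine eq_bot_iff.2 (Scheme.IdealSheafData.le_of_iSup_eq_top
      (fun j => ⟨chart (n + 1) k j, SepTang48.isAffineOpen_D k (n + 1) j⟩) (SepTang48.iSup_D k (n + 1)) fun j => ?_)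
    rw [LefHyp.hypIdeal_ideal_of_le G j _ le_rfl, QCoh.rres_self, LefHyp.dehom_eq_eval₂, hG, map_zero,
      Ideal.span_singleton_eq_bot.2 rfl]
    exact bot_le
  haveI : IsIso (hypIdeal G).subschemeι := by
    rw [IsClosedImmersion.isIso_iff_ker_eq_bot, Scheme.IdealSheafData.ker_subschemeι, h0]
  have hP : SmoothOfRelativeDimension n (𝟙 (CohB1.ProjSpace (n + 1) k) ≫ CohB1.ProjSpace.toSpec (n + 1) k) := by
    rw [Category.id_comp]
    exact (MorphismProperty.cancel_left_of_respectsIso (P := @SmoothOfRelativeDimension n)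
      (hypIdeal G).subschemeι _).1 hX
  have hrel := LefHyp.smoothRelDim_chart (𝟙 (CohB1.ProjSpace (n + 1) k)) n (hX := hP) 0
  let A := Γ(CohB1.ProjSpace (n + 1) k, BertiniPn.U (𝟙 (CohB1.ProjSpace (n + 1) k)) 0)
  let c : MvPolynomial (Fin (n + 1)) k ≃ₐ[k] A := LefHyp.chartEquiv 0
  haveI : Nontrivial A := c.toEquiv.symm.nontrivial
  obtain ⟨P⟩ : Nonempty (PrimeSpectrum A) := inferInstance
  have hrel' : SmoothOfRelativeDimension n
      (Spec.map (CommRingCat.ofHom (algebraMap k (MvPolynomial (Fin (n + 1)) k)))) := by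
    have e : CommRingCat.ofHom (algebraMap k A) =
        CommRingCat.ofHom (algebraMap k (MvPolynomial (Fin (n + 1)) k)) ≫ c.toRingEquiv.toCommRingCatIso.hom :=
      CommRingCat.hom_ext (RingHom.ext fun r => (c.commutes r).symm)
    rw [e, Spec.map_comp] at hrel
    exact (MorphismProperty.cancel_left_of_respectsIso (P := @SmoothOfRelativeDimension n) _ _).1 hrel
  have h := CAlg76.SmoothRelDim.rankAtStalk_kaehler hrel' (P.comap c.toRingHom)
  rw [Module.rankAtStalk_eq_of_equiv (KaehlerDifferential.mvPolynomialEquiv k (Fin (n + 1))),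
    Module.rankAtStalk_eq_finrank_of_free] at h
  simp [Module.finrank_finsupp_self] at h

variable [Fintype k]

/-- The strata count the non-zero vectors up to scalars. -/
theorem card_strata_zeros {n : ℕ} (Q : QuadraticForm k (Fin (n + 1) → k)) :
    (Nat.card { v : Fin (n + 1) → k // Q v = 0 } : ℤ) =
      ((Fintype.card k : ℤ) - 1) * Nat.card { p : ZetaLib.Strata n k // Q p.2.1 = 0 } + 1 := by
  classical
  let f : kˣ × { p : ZetaLib.Strata n k // Q p.2.1 = 0 } → { v : Fin (n + 1) → k // Q v = 0 ∧ v ≠ 0 } := fun z =>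
    ⟨(z.1 : k) • z.2.1.2.1, by rw [QuadraticMap.map_smul, z.2.2, smul_zero], fun h => by
      have := congrFun h z.2.1.1
      simp [z.2.1.2.2.1] at this⟩
  have hf : Function.Bijective f := by
    refine ⟨fun a b hab => ?_, fun v => ?_⟩
    · obtain ⟨c, ⟨i, v, hv1, hv0⟩, hQ⟩ := a
      obtain ⟨c', ⟨i', v', hv1', hv0'⟩, hQ'⟩ := b
      have h : ∀ l, (c : k) * v l = (c' : k) * v' l := fun l => congrFun (congrArg Subtype.val hab) l
      obtain rfl : i = i' := by
        rcases lt_trichotomy i i' with hlt | rfl | hlt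
        · have := h i; rw [hv1, hv0' i hlt, mul_one, mul_zero] at this; exact absurd this c.ne_zero
        · rfl
        · have := h i'; rw [hv1', hv0 i' hlt, mul_one, mul_zero] at this; exact absurd this.symm c'.ne_zero
      have hc : c = c' := Units.ext (by simpa [hv1, hv1'] using h i)
      subst hc
      obtain rfl : v = v' := funext fun l => mul_left_cancel₀ c.ne_zero (h l)
      rfl
    · obtain ⟨v, hv, hv0⟩ := v
      obtain ⟨l, hl⟩ := Function.ne_iff.1 hv0
      let s := Finset.univ.filter fun l => v l ≠ 0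
      have hs : s.Nonempty := ⟨l, by simpa [s] using hl⟩
      have hi : v (s.min' hs) ≠ 0 := (Finset.mem_filter.1 (s.min'_mem hs)).2
      refine ⟨(Units.mk0 _ hi, ⟨⟨s.min' hs, (v (s.min' hs))⁻¹ • v, inv_mul_cancel₀ hi, fun m hm => ?_⟩, ?_⟩), ?_⟩
      · have : v m = 0 := by
          by_contra h
          exact absurd (s.min'_le m (by simp [s, h])) (not_le.2 hm)
        simp [this]
      · change Q ((v (s.min' hs))⁻¹ • v) = 0
        rw [QuadraticMap.map_smul, hv, smul_zero]
      · exact Subtype.ext (smul_inv_smul₀ hi v)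
  have h1 : Nat.card { v : Fin (n + 1) → k // Q v = 0 ∧ v ≠ 0 } + 1 = Nat.card { v : Fin (n + 1) → k // Q v = 0 } := by
    rw [Nat.card_eq_fintype_card, Nat.card_eq_fintype_card, Fintype.card_subtype, Fintype.card_subtype,
      ← Finset.filter_filter, Finset.filter_ne', Finset.card_erase_add_one (by simp)]
  rw [← h1, ← Nat.card_congr (Equiv.ofBijective f hf), Nat.card_prod, Nat.card_eq_fintype_card (α := kˣ),
    Fintype.card_units]
  push_cast [Nat.cast_sub (Fintype.card_pos (α := k))]
  ring

theorem pointCount_quadric (k : Type u) [Field k] [Fintype k] (n : ℕ) (G : Form (n + 1) k 2)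
    [SmoothOfRelativeDimension n ((hypIdeal G).subschemeι ≫ CohB1.ProjSpace.toSpec (n + 1) k)] :
    (Odd n → (SgaExt.pointCount ((hypIdeal G).subschemeι ≫ CohB1.ProjSpace.toSpec (n + 1) k) k : ℤ) =
      ∑ i ∈ Finset.range (n + 1), (Fintype.card k : ℤ) ^ i) ∧
    (Even n → ∃ ε : ℤ, (ε = 1 ∨ ε = -1) ∧
      (SgaExt.pointCount ((hypIdeal G).subschemeι ≫ CohB1.ProjSpace.toSpec (n + 1) k) k : ℤ) =
        (∑ i ∈ Finset.range (n + 1), (Fintype.card k : ℤ) ^ i) + ε * (Fintype.card k : ℤ) ^ (n / 2) ∧
      (ε = 1 ↔ ∃ W : Submodule k (Fin (n + 1 + 1) → k), Module.finrank k ↥W = n / 2 + 1 ∧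
        ∀ w ∈ W, MvPolynomial.eval w G.1 = 0)) := by
  classical
  haveI : Smooth ((hypIdeal G).subschemeι ≫ CohB1.ProjSpace.toSpec (n + 1) k) :=
    SmoothOfRelativeDimension.smooth (n := n) _
  obtain ⟨Q, hQ, hQ'⟩ := exists_quadraticForm ((mem_homogeneousSubmodule 2 _).1 G.2)
  have hns := ns_of_smooth G (setOne_ne_zero G (form_ne_zero G)) Q hQ (fun v i => hQ' v i)
  obtain ⟨hodd, heven⟩ := card_zeros (n + 2) _ Q (Module.finrank_fin_fun k) hns
  have hpc : SgaExt.pointCount ((hypIdeal G).subschemeι ≫ CohB1.ProjSpace.toSpec (n + 1) k) k =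
      Nat.card { p : ZetaLib.Strata (n + 1) k // Q p.2.1 = 0 } := by
    rw [pointCount_hypersurface]
    refine Nat.card_congr (Equiv.subtypeEquivRight fun p => ?_)
    rw [hQ, MvPolynomial.aeval_eq_eval]
  have hz := card_strata_zeros Q
  rw [← hpc] at hz
  have hq : (Fintype.card k : ℤ) - 1 ≠ 0 := by
    have := Fintype.one_lt_card (α := k); omega
  refine ⟨fun hn => ?_, fun hn => ?_⟩
  · obtain ⟨s, rfl⟩ := hn
    refine mul_left_cancel₀ hq ?_
    rw [mul_geom_sum]
    have h := hodd (s + 1) (by ring)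
    rw [h, show 2 * (s + 1) = 2 * s + 1 + 1 from by ring] at hz
    linarith
  · obtain ⟨s, rfl⟩ := hn
    rw [show (s + s) / 2 = s by omega]
    have h := heven s (by ring)
    refine ⟨if HasIso Q (s + 1) then 1 else -1, by split_ifs <;> simp, mul_left_cancel₀ hq ?_, ?_⟩
    · rw [mul_add, mul_geom_sum]
      rw [h, show 2 * s + 1 = s + s + 1 from by ring, pow_succ (Fintype.card k : ℤ) s] at hz
      linear_combination -hz
    · rw [show (if HasIso Q (s + 1) then (1 : ℤ) else -1) = 1 ↔ HasIso Q (s + 1) by split_ifs with hh <;> simp [hh]]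
      refine exists_congr fun W => and_congr_right fun _ => forall₂_congr fun w _ => ?_
      rw [hQ]

end Groth.Agent.QuadricCount
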